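import Mathlib
import Groth.Prelude.Def_NonAbH2

/-!
Morphisms descend along maps with fppf-local sections, and such maps are stable under base change.
-/

set_option autoImplicit false

universe u

open CategoryTheory CategoryTheory.Limits MonoidalCategory CartesianMonoidalCategory AlgebraicGeometry

namespace Groth.ChGrpH

variable {S : Scheme.{u}} {X Y Z : Over S}

/-- `p` has sections locally for the fppf topology. -/
def HasLocSections (p : X ⟶ Y) : Prop :=
  ∀ ⦃T : Over S⦄ (y : T ⟶ Y), ∃ R ∈ Scheme.fppfPrecoverage T.left, ∀ ⦃U : Scheme.{u}⦄ (f : U ⟶ T.left), R f →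
    ∃ x : U ⟶ X.left, x ≫ p.left = f ≫ y.left

theorem hasLocSections (p : X ⟶ Y)
    (h : NonAbH1.IsLocallyTrivialFor Scheme.fppfPrecoverage (Over.mk p.left : Over Y.left)) :
    HasLocSections p := by
  intro T y
  obtain ⟨R, hR, hsec⟩ := h
  have : R.HasPullbacks y.left := ⟨fun _ => inferInstance⟩
  refine ⟨R.pullbackArrows y.left, Precoverage.pullbackArrows_mem y.left hR, ?_⟩
  rintro U g ⟨W, f, hf⟩
  obtain ⟨s, hs⟩ := hsec f hf
  exact ⟨pullback.fst f y.left ≫ s, by rw [Category.assoc, show s ≫ p.left = f from hs, pullback.condition]⟩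

theorem isSheafFor {T : Scheme.{u}} {R : Presieve T} (hR : R ∈ Scheme.fppfPrecoverage T) (W : Scheme.{u}) :
    Presieve.IsSheafFor (yoneda.obj W) R := by
  exact (GrothendieckTopology.Subcanonical.isSheaf_of_isRepresentable (J := Scheme.fppfTopology) (yoneda.obj W)).isSheafFor R
    (Precoverage.Saturate.of _ R hR)

theorem hom_ext_of_cover {T : Over S} {R : Presieve T.left} (hR : R ∈ Scheme.fppfPrecoverage T.left) {f g : T ⟶ Z}
    (h : ∀ ⦃U : Scheme.{u}⦄ (a : U ⟶ T.left), R a → a ≫ f.left = a ≫ g.left) : f = g := by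
  ext : 1
  exact (isSheafFor hR Z.left).isSeparatedFor (fun U a _ => a ≫ f.left) f.left g.left (fun U a _ => rfl)
    fun U a ha => (h a ha).symm

/-- A covering by objects over `S`, each with a lift. -/
theorem HasLocSections.exists_lift {p : X ⟶ Y} (hp : HasLocSections p) {T : Over S} (y : T ⟶ Y) :
    ∃ R ∈ Scheme.fppfPrecoverage T.left, ∀ ⦃U : Scheme.{u}⦄ (a : U ⟶ T.left), R a →
      ∃ x : Over.mk (a ≫ T.hom) ⟶ X, x ≫ p = (Over.homMk a : Over.mk (a ≫ T.hom) ⟶ T) ≫ y := by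
  obtain ⟨R, hR, h⟩ := hp y
  refine ⟨R, hR, fun U a ha => ?_⟩
  obtain ⟨x, hx⟩ := h a ha
  refine ⟨Over.homMk x ?_, by ext; exact hx⟩
  show x ≫ X.hom = a ≫ T.hom
  rw [← Over.w p, ← Category.assoc, hx, Category.assoc, Over.w y]

theorem HasLocSections.hom_ext {p : X ⟶ Y} (hp : HasLocSections p) {f g : Y ⟶ Z} (h : p ≫ f = p ≫ g) : f = g := by
  obtain ⟨R, hR, hl⟩ := hp.exists_lift (𝟙 Y)
  refine hom_ext_of_cover hR fun U a ha => ?_
  obtain ⟨x, hx⟩ := hl a ha
  have := congrArg Over.Hom.left (show (Over.homMk a : Over.mk (a ≫ Y.hom) ⟶ Y) ≫ f = Over.homMk a ≫ g by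
    rw [Category.comp_id] at hx
    rw [← hx, Category.assoc, h, Category.assoc])
  exact this

/-- Descent of morphisms along a map with local sections. -/
theorem HasLocSections.exists_desc {p : X ⟶ Y} (hp : HasLocSections p) (f : X ⟶ Z)
    (hf : ∀ (T : Over S) (a b : T ⟶ X), a ≫ p = b ≫ p → a ≫ f = b ≫ f) : ∃ g : Y ⟶ Z, p ≫ g = f := by
  classical
  obtain ⟨R, hR, hl⟩ := hp.exists_lift (𝟙 Y)
  choose s hs using hl
  have hs' : ∀ ⦃U : Scheme.{u}⦄ (a : U ⟶ Y.left) (ha : R a), (s a ha).left ≫ p.left = a := fun U a ha => by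
    have := congrArg Over.Hom.left (hs a ha)
    simpa using this
  have key : ∀ {W : Scheme.{u}} (a b : W ⟶ X.left), a ≫ p.left = b ≫ p.left → a ≫ f.left = b ≫ f.left := by
    intro W a b hab
    have hW : b ≫ X.hom = a ≫ X.hom := by
      rw [← Over.w p, ← Category.assoc, ← hab, Category.assoc]
    exact congr(($(hf (Over.mk (a ≫ X.hom)) (Over.homMk a rfl) (Over.homMk b hW) (by ext; exact hab))).left)
  let fam : Presieve.FamilyOfElements (yoneda.obj Z.left) R := fun U a ha => (s a ha).left ≫ f.left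
  have hfam : fam.Compatible := by
    intro U₁ U₂ W g₁ g₂ a₁ a₂ h₁ h₂ hcomm
    show g₁ ≫ (s a₁ h₁).left ≫ f.left = g₂ ≫ (s a₂ h₂).left ≫ f.left
    rw [← Category.assoc, ← Category.assoc]
    exact key _ _ (by rw [Category.assoc, Category.assoc, hs', hs', hcomm])
  let g₀ : Y.left ⟶ Z.left := (isSheafFor hR Z.left).amalgamate fam hfam
  have hg : ∀ ⦃U : Scheme.{u}⦄ (a : U ⟶ Y.left) (ha : R a), a ≫ g₀ = (s a ha).left ≫ f.left := fun U a ha =>
    (isSheafFor hR Z.left).valid_glue hfam a ha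
  have hw : g₀ ≫ Z.hom = Y.hom := (isSheafFor hR S).isSeparatedFor (fun U a _ => a ≫ Y.hom) _ _
    (fun U a ha => by
      show a ≫ g₀ ≫ Z.hom = a ≫ Y.hom
      rw [← Category.assoc, hg a ha, Category.assoc, Over.w f]
      exact (Over.w (s a ha))) (fun U a ha => rfl)
  refine ⟨Over.homMk g₀ hw, ?_⟩
  obtain ⟨R', hR', hl'⟩ := hp p
  ext : 1
  have hcov : R.pullbackArrows p.left ∈ Scheme.fppfPrecoverage X.left :=
    haveI : R.HasPullbacks p.left := ⟨fun _ => inferInstance⟩
    Precoverage.pullbackArrows_mem p.left hR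
  refine (isSheafFor hcov Z.left).isSeparatedFor (fun U a _ => a ≫ f.left) _ _ ?_ (fun U a _ => rfl)
  rintro U b ⟨W, a, ha⟩
  show pullback.snd a p.left ≫ p.left ≫ g₀ = pullback.snd a p.left ≫ f.left
  rw [← pullback.condition_assoc, hg a ha, ← Category.assoc]
  exact key _ _ (by rw [Category.assoc, hs', pullback.condition])

end Groth.ChGrpH
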