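import Mathlib
import Groth.Prelude.Def_ChGrp
import Groth.Agent.ChGrpH.Basic
import Groth.Agent.DescentBase.FpqcCover

/-!
Balanced products on points.
-/

set_option autoImplicit false

universe u

open CategoryTheory CategoryTheory.Limits MonoidalCategory CartesianMonoidalCategory MonObj AlgebraicGeometry

namespace Groth.ChGrpH

variable {S : Scheme.{u}}

theorem point_eq_lift {A B T : Over S} (p : T ⟶ A ⊗ B) : p = lift (p ≫ fst A B) (p ≫ snd A B) := by
  rw [← comp_lift, lift_fst_snd, Category.comp_id]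

theorem isPullback_of_points {P A B C : Over S} {f : P ⟶ A} {g : P ⟶ B} {p : A ⟶ C} {q : B ⟶ C}
    (w : f ≫ p = g ≫ q)
    (h : ∀ (T : Over S) (a : T ⟶ A) (b : T ⟶ B), a ≫ p = b ≫ q → ∃ l : T ⟶ P, l ≫ f = a ∧ l ≫ g = b)
    (hu : ∀ (T : Over S) (l l' : T ⟶ P), l ≫ f = l' ≫ f → l ≫ g = l' ≫ g → l = l') :
    IsPullback f g p q := by
  choose l hl hl' using fun s : PullbackCone p q => h s.pt s.fst s.snd s.condition
  exact IsPullback.of_isLimit' ⟨w⟩ (PullbackCone.IsLimit.mk _ l hl hl' fun s m hm hm' =>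
    hu _ _ _ (hm.trans (hl s).symm) (hm'.trans (hl' s).symm))

variable {G H Z Y : Over S} [GrpObj G] [GrpObj H] {i : H ⟶ G} [IsMonHom i] {aZ : AlgGrp.Action H Z}
  {aY : AlgGrp.Action G Y} {j : G ⊗ Z ⟶ Y}

/-- Equivariance of `j` on points. -/
theorem balProd_mul (hY : ChGrp.IsBalProd Scheme.fppfPrecoverage i aZ aY j) {T : Over S} (g g' : T ⟶ G)
    (z : T ⟶ Z) : lift (g * g') z ≫ j = lift g (lift g' z ≫ j) ≫ aY.act := by
  have h := congrArg (fun m => lift g (lift g' z) ≫ m) (show _ ≫ j = (G ◁ j) ≫ aY.act from hY.1)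
  simp only [lift_whiskerLeft_assoc] at h
  rw [← h, AlgGrp.Action.lift_prod_act_assoc, AlgGrp.Action.lift_trivial_act]
  simp [NonAbH1.trivialAction, Hom.mul_def]

/-- The subgroup moves across the balanced product. -/
theorem balProd_assoc (hY : ChGrp.IsBalProd Scheme.fppfPrecoverage i aZ aY j) {T : Over S} (g : T ⟶ G)
    (h : T ⟶ H) (z : T ⟶ Z) : lift (g * (h ≫ i)) z ≫ j = lift g (lift h z ≫ aZ.act) ≫ j := by
  have h1 := congrArg (fun m => lift h (lift (g * (h ≫ i)) z) ≫ m) hY.2.1.w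
  simp only [lift_snd_assoc] at h1
  rw [ChGrp.lift_twist_act_assoc, mul_inv_cancel_right] at h1
  exact h1.symm

/-- Equality in the balanced product. -/
theorem balProd_exists_of_eq (hY : ChGrp.IsBalProd Scheme.fppfPrecoverage i aZ aY j) {T : Over S}
    {g g' : T ⟶ G} {z z' : T ⟶ Z} (e : lift g z ≫ j = lift g' z' ≫ j) :
    ∃ h : T ⟶ H, g = g' * (h ≫ i)⁻¹ ∧ z = lift h z' ≫ aZ.act := by
  obtain ⟨l, hl, hl'⟩ := hY.2.1.exists_lift _ _ e
  refine ⟨l ≫ fst _ _, ?_⟩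
  have hl2 : l = lift (l ≫ fst _ _) (lift g' z') := by rw [← hl', ← point_eq_lift]
  rw [hl2, ChGrp.lift_twist_act] at hl
  exact ⟨by simpa using congrArg (· ≫ fst G Z) hl.symm, by simpa using congrArg (· ≫ snd G Z) hl.symm⟩

theorem balProd_hasLocSections (hY : ChGrp.IsBalProd Scheme.fppfPrecoverage i aZ aY j) : HasLocSections j :=
  hasLocSections j hY.2.2

/-- Points of a balanced product lift locally. -/
theorem balProd_exists_local (hY : ChGrp.IsBalProd Scheme.fppfPrecoverage i aZ aY j) {T : Over S} (y : T ⟶ Y) :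
    ∃ R ∈ Scheme.fppfPrecoverage T.left, ∀ ⦃U : Scheme.{u}⦄ (a : U ⟶ T.left), R a →
      ∃ (g : Over.mk (a ≫ T.hom) ⟶ G) (z : Over.mk (a ≫ T.hom) ⟶ Z),
        lift g z ≫ j = (Over.homMk a : Over.mk (a ≫ T.hom) ⟶ T) ≫ y := by
  obtain ⟨R, hR, hl⟩ := (balProd_hasLocSections hY).exists_lift y
  refine ⟨R, hR, fun U a ha => ?_⟩
  obtain ⟨x, hx⟩ := hl a ha
  exact ⟨x ≫ fst G Z, x ≫ snd G Z, by rw [← point_eq_lift]; exact hx⟩

theorem isLocallyTrivialFor_of_exists {X Y' : Over S} (p : X ⟶ Y') {R : Presieve Y'.left}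
    (hR : R ∈ Scheme.fppfPrecoverage Y'.left)
    (h : ∀ ⦃U : Scheme.{u}⦄ (a : U ⟶ Y'.left), R a →
      ∃ x : Over.mk (a ≫ Y'.hom) ⟶ X, x ≫ p = Over.homMk a) :
    NonAbH1.IsLocallyTrivialFor Scheme.fppfPrecoverage (Over.mk p.left : Over Y'.left) := by
  refine ⟨R, hR, fun U a ha => ?_⟩
  obtain ⟨x, hx⟩ := h a ha
  exact ⟨x.left, congrArg Over.Hom.left hx⟩

theorem mono_of_mono_left {A B : Over S} (f : A ⟶ B) [Mono f.left] : Mono f :=
  ⟨fun g h e => Over.OverMorphism.ext (by rw [← cancel_mono f.left]; exact congrArg Over.Hom.left e)⟩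

/-- A property of `p` local on the target can be checked on a map with local sections. -/
theorem of_hasLocSections (P : MorphismProperty Scheme.{u}) [P.IsStableUnderBaseChange] [IsZariskiLocalAtTarget P]
    (hP : P.DescendsAlong Groth.DescentBase.SFQ) {W X X' Y' : Over S} {p : X ⟶ Y'} (hp : HasLocSections p)
    {m : W ⟶ Y'} {f : X' ⟶ W} {g : X' ⟶ X} (h : IsPullback f.left g.left m.left p.left) (hg : P g.left) :
    P m.left := by
  obtain ⟨R, hR, hl⟩ := hp (𝟙 Y')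
  obtain ⟨κ, U, a, rfl⟩ := R.exists_eq_ofArrows
  let 𝒰₀ : Scheme.Cover (Scheme.precoverage (@Flat ⊓ @LocallyOfFinitePresentation)) Y'.left :=
    ⟨⟨κ, U, a⟩, hR⟩
  let 𝒰' : Scheme.Cover.{u} Scheme.fpqcPrecoverage Y'.left :=
    ⟨𝒰₀.ulift.toPreZeroHypercover, Scheme.fppfPrecoverage_le_fpqcPrecoverage _ 𝒰₀.ulift.mem₀⟩
  refine Groth.DescentBase.of_fpqcCover P hP m.left 𝒰' fun j => ?_
  obtain ⟨x, hx⟩ := hl (𝒰'.f j) (Presieve.ofArrows.mk _)
  have hx' : 𝒰'.f j = x ≫ p.left := by rw [hx, Over.id_left, Category.comp_id]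
  have h1 : IsPullback (pullback.fst g.left x ≫ f.left) (pullback.snd g.left x) m.left (x ≫ p.left) :=
    (IsPullback.of_hasPullback g.left x).paste_horiz h
  refine Groth.DescentBase.of_eq P m.left hx'.symm ?_
  rw [← P.cancel_left_of_respectsIso h1.isoPullback.hom, h1.isoPullback_hom_snd]
  exact P.pullback_snd _ _ hg

end Groth.ChGrpH
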